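import Groth.Agent.Lib.PPGen.DiffHom
import Groth.Agent.Lib.PPGen.AffSections
import Groth.Agent.Lib.PPGen.TildeHom
import Groth.Agent.Lib.QCoh.PullbackSections
import Groth.Agent.S5959
import Groth.Prelude.Def_DiffOp

/-! # Differential operators on affine schemes from global sections -/

set_option autoImplicit false
set_option linter.style.haveILetI false
set_option backward.isDefEq.respectTransparency false
set_option maxHeartbeats 800000

universe u

open CategoryTheory CategoryTheory.Limits AlgebraicGeometry Opposite TopologicalSpace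
open scoped TensorProduct

noncomputable section

namespace GrothLib.DiffAff9

open GrothLib.PPGen PrinPart

theorem isOrd_of_isDiffOpLE {A B : Type u} [CommRing A] [CommRing B] [Algebra A B]
    {M N : Type u} [AddCommGroup M] [Module A M] [Module B M] [IsScalarTower A B M]
    [AddCommGroup N] [Module A N] [Module B N] [IsScalarTower A B N] :
    ∀ (n : ℕ) (D : M →ₗ[A] N), Diff16.IsDiffOpLE A B M N n D → Alg.IsOrd (R := B) (n + 1) D := by
  have hphi : ∀ (D : M →ₗ[A] N) (a : B), Alg.phi D (Alg.delta A a) = Diff16.commutator A B M N D a := by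
    intro D a
    ext m
    rw [Alg.delta, map_sub, LinearMap.sub_apply, Alg.phi_tmul, Alg.phi_tmul, one_smul, one_smul]
    rfl
  intro n
  induction n with
  | zero =>
    intro D hD
    refine Alg.isOrd_succ.2 fun a => Alg.isOrd_zero.2 ?_
    rw [hphi]
    ext m
    show D (a • m) - a • D m = 0
    rw [hD a m, sub_self]
  | succ n ih =>
    intro D hD
    refine Alg.isOrd_succ.2 fun a => ?_
    rw [hphi]
    exact ih _ (hD a)

theorem exists_hom_of_isAffine {X : Scheme.{u}} [IsAffine X] (M N : X.Modules) (hM : Coh.IsQCoh M)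
    (g : Γ(M, (⊤ : X.Opens)) →+ Γ(N, (⊤ : X.Opens)))
    (hg : ∀ (r : Γ(X, (⊤ : X.Opens))) (m : Γ(M, (⊤ : X.Opens))), g (r • m) = r • g m) :
    ∃ u : M ⟶ N, ∀ m, u.app ⊤ m = g m := by
  let j := X.isoSpec
  haveI : M.IsQuasicoherent := hM
  let P := Scheme.Modules.pushforward j.hom
  haveI : (P.obj M).IsQuasicoherent := Groth.Agent.S2249.result j.hom M
  obtain ⟨u', hu'⟩ := exists_hom_top (P.obj M) (P.obj N) g fun r m => by
    show g ((show Γ(X, (⊤ : X.Opens)) from j.hom.app ⊤ ((Scheme.ΓSpecIso _).inv r)) • (show Γ(M, (⊤ : X.Opens)) from m)) = _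
    rw [hg]
    rfl
  haveI : P.Full := by infer_instance
  obtain ⟨v, hv⟩ := P.map_surjective u'
  refine ⟨v, fun m => ?_⟩
  have h := hu' m
  rw [← hv] at h
  exact h

theorem exists_isDiffOpLE {X S : Scheme.{u}} [IsAffine X] [IsAffine S] (f : X ⟶ S)
    (F G : X.Modules) (hF : Coh.IsQCoh F) (k : ℕ) :
    letI : Algebra Γ(S, ⊤) Γ(X, ⊤) := f.appTop.hom.toAlgebra
    letI : Module Γ(S, ⊤) Γ(F, ⊤) := Module.compHom Γ(F, ⊤) f.appTop.hom
    letI : Module Γ(S, ⊤) Γ(G, ⊤) := Module.compHom Γ(G, ⊤) f.appTop.hom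
    haveI : IsScalarTower Γ(S, ⊤) Γ(X, ⊤) Γ(F, ⊤) := IsScalarTower.of_algebraMap_smul fun _ _ => rfl
    haveI : IsScalarTower Γ(S, ⊤) Γ(X, ⊤) Γ(G, ⊤) := IsScalarTower.of_algebraMap_smul fun _ _ => rfl
    ∀ D' : Γ(F, ⊤) →ₗ[Γ(S, ⊤)] Γ(G, ⊤), Diff16.IsDiffOpLE Γ(S, ⊤) Γ(X, ⊤) Γ(F, ⊤) Γ(G, ⊤) k D' →
      ∃ D : F.presheaf ⟶ G.presheaf, PrinPart.IsDiffOpLE f F G k D ∧
        ∀ m : Γ(F, ⊤), (D.app (op ⊤)).hom m = D' m := by
  letI : Algebra Γ(S, ⊤) Γ(X, ⊤) := f.appTop.hom.toAlgebra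
  letI : Module Γ(S, ⊤) Γ(F, ⊤) := Module.compHom Γ(F, ⊤) f.appTop.hom
  letI : Module Γ(S, ⊤) Γ(G, ⊤) := Module.compHom Γ(G, ⊤) f.appTop.hom
  haveI : IsScalarTower Γ(S, ⊤) Γ(X, ⊤) Γ(F, ⊤) := IsScalarTower.of_algebraMap_smul fun _ _ => rfl
  haveI : IsScalarTower Γ(S, ⊤) Γ(X, ⊤) Γ(G, ⊤) := IsScalarTower.of_algebraMap_smul fun _ _ => rfl
  intro D' hD'
  haveI : F.IsQuasicoherent := hF
  haveI := isAffineHom_pr1 f k
  let U : X.Opens := ⊤
  let V : S.Opens := ⊤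
  have hU : IsAffineOpen U := isAffineOpen_top X
  have hV : IsAffineOpen V := isAffineOpen_top S
  have hUV : U ≤ f ⁻¹ᵁ V := fun _ _ => trivial
  let W := pullback.fst f f ⁻¹ᵁ U ⊓ pullback.snd f f ⁻¹ᵁ U
  have hP : IsPushout (f.appLE V U hUV) (f.appLE V U hUV)
      ((pullback.fst f f).appLE U W inf_le_left) ((pullback.snd f f).appLE U W inf_le_right) :=
    (AlgebraicGeometry.isIso_pushoutSection_iff (IsPullback.of_hasPullback f f)
      (US := V) (UT := U) (UX := U) (UY := W) hUV hUV rfl).1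
      (AlgebraicGeometry.isIso_pushoutSection_of_isAffineOpen (IsPullback.of_hasPullback f f)
        hUV hUV rfl hV hU hU)
  let R₀ := Γ(S, (⊤ : S.Opens))
  let A₀ := Γ(X, (⊤ : X.Opens))
  have hfA : ∀ r, f.appLE V U hUV r = algebraMap R₀ A₀ r := fun r => by
    show f.appLE V (f ⁻¹ᵁ V) le_rfl r = _
    rw [← Scheme.Hom.app_eq_appLE]
    rfl
  let a₁ : Γ(X, U) ⟶ CommRingCat.of (A₀ ⊗[R₀] A₀) :=
    CommRingCat.ofHom (Algebra.TensorProduct.includeLeftRingHom : A₀ →+* A₀ ⊗[R₀] A₀)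
  let a₂ : Γ(X, U) ⟶ CommRingCat.of (A₀ ⊗[R₀] A₀) :=
    CommRingCat.ofHom (Algebra.TensorProduct.includeRight : A₀ →ₐ[R₀] A₀ ⊗[R₀] A₀).toRingHom
  have ha : f.appLE V U hUV ≫ a₁ = f.appLE V U hUV ≫ a₂ := by
    refine CommRingCat.hom_ext (RingHom.ext fun r => ?_)
    show (f.appLE V U hUV r) ⊗ₜ[R₀] (1 : A₀) = (1 : A₀) ⊗ₜ[R₀] (f.appLE V U hUV r)
    rw [hfA, Algebra.algebraMap_eq_smul_one, TensorProduct.smul_tmul]
  let T : Γ(pullback f f, W) ⟶ CommRingCat.of (A₀ ⊗[R₀] A₀) := hP.desc a₁ a₂ ha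
  let I := KaehlerDifferential.ideal R₀ A₀
  let d := (pullback.diagonal f).appLE W U (le_preimage_diag f U)
  have hd : T ≫ CommRingCat.ofHom (Algebra.TensorProduct.lmul' R₀ (S := A₀)).toRingHom = d := by
    refine hP.hom_ext ?_ ?_
    · rw [hP.inl_desc_assoc]
      refine CommRingCat.hom_ext (RingHom.ext fun b => ?_)
      show Algebra.TensorProduct.lmul' R₀ (S := A₀) (b ⊗ₜ[R₀] (1 : A₀)) =
        ((pullback.fst f f).appLE U W inf_le_left ≫ (pullback.diagonal f).appLE W U _) b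
      rw [Algebra.TensorProduct.lmul'_apply_tmul, mul_one, Scheme.Hom.appLE_comp_appLE,
        app_congr_le (pullback.diagonal_fst f) U U _ (fun _ h => h) b]
      exact (congr($(X.presheaf.map_id (op U)) b)).symm
    · rw [hP.inr_desc_assoc]
      refine CommRingCat.hom_ext (RingHom.ext fun b => ?_)
      show Algebra.TensorProduct.lmul' R₀ (S := A₀) ((1 : A₀) ⊗ₜ[R₀] b) =
        ((pullback.snd f f).appLE U W inf_le_right ≫ (pullback.diagonal f).appLE W U _) b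
      rw [Algebra.TensorProduct.lmul'_apply_tmul, one_mul, Scheme.Hom.appLE_comp_appLE,
        app_congr_le (pullback.diagonal_snd f) U U _ (fun _ h => h) b]
      exact (congr($(X.presheaf.map_id (op U)) b)).symm
  obtain ⟨hsurj, hker⟩ := restrictFn_surjective_and_ker f k hV hU hUV
  let q : Γ(pullback f f, W) →+* (A₀ ⊗[R₀] A₀) ⧸ I ^ (k + 1) := (Ideal.Quotient.mk _).comp T.hom
  have hq : RingHom.ker (restrictFn f k U) ≤ RingHom.ker q := by
    intro c hc
    rw [hker] at hc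
    have h2 : (RingHom.ker d.hom).map T.hom ≤ I := by
      refine Ideal.map_le_iff_le_comap.2 fun x hx => ?_
      show Algebra.TensorProduct.lmul' R₀ (S := A₀) (T x) = 0
      rw [← hd] at hx
      exact hx
    have h3 : T c ∈ I ^ (k + 1) := by
      refine Ideal.pow_right_mono h2 _ ?_
      rw [← Ideal.map_pow]
      exact Ideal.mem_map_of_mem _ hc
    exact Ideal.Quotient.eq_zero_iff_mem.2 h3
  let θ : Γ(nbhd f k, pr1 f k ⁻¹ᵁ U) →+* (A₀ ⊗[R₀] A₀) ⧸ I ^ (k + 1) :=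
    RingHom.liftOfSurjective (restrictFn f k U) hsurj ⟨q, hq⟩
  have hθ' : ∀ c, θ (restrictFn f k U c) = q c := fun c =>
    RingHom.liftOfRightInverse_comp_apply (restrictFn f k U) _ _ ⟨q, hq⟩ c
  have hθ : ∀ b, θ (pr1Fn f k U b) = Ideal.Quotient.mk _ (b ⊗ₜ 1) ∧
      θ (pr2Fn f k U b) = Ideal.Quotient.mk _ (1 ⊗ₜ b) := by
    intro b
    refine ⟨?_, ?_⟩
    · rw [← restrictFn_fst, hθ']
      exact congrArg (Ideal.Quotient.mk _) (congr($(hP.inl_desc a₁ a₂ ha) b))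
    · rw [← restrictFn_snd, hθ']
      exact congrArg (Ideal.Quotient.mk _) (congr($(hP.inr_desc a₁ a₂ ha) b))
  obtain ⟨γ, hγ1, hγL, hγR⟩ :=
    exists_pairing (pr1Fn f k U) (pr2Fn f k U) θ hθ D' (isOrd_of_isDiffOpLE k D' hD')
  -- sections of the pullback
  let C := Γ(nbhd f k, pr1 f k ⁻¹ᵁ U)
  letI algC : Algebra Γ(X, U) C := ((pr2 f k).appLE U (pr1 f k ⁻¹ᵁ U) (preimage_pr1 f k U).le).hom.toAlgebra
  have hbij := QCoh.bijective_sectionsMap (pr2 f k) F (preimage_pr1 f k U).le rfl hU (hU.preimage (pr1 f k))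
  let e := LinearEquiv.ofBijective _ hbij
  let T' : C ⊗[Γ(X, U)] Γ(F, U) →+ Γ(G, U) :=
    TensorProduct.liftAddHom γ fun b r m => by
      refine Eq.trans ?_ (hγR b r m)
      rfl
  let gbar : Γ(PMod f k F, U) →+ Γ(G, U) := T'.comp e.symm.toLinearMap.toAddMonoidHom
  obtain ⟨u, hu⟩ := exists_hom_of_isAffine (PMod f k F) G (Groth.Agent.S5959.result f k F hF) gbar fun r m => by
    obtain ⟨w, hw⟩ := e.surjective m
    subst hw
    show T' (e.symm (pr1Fn f k U r • e w)) = r • T' (e.symm (e w))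
    rw [map_smul, LinearEquiv.symm_apply_apply]
    induction w using TensorProduct.induction_on with
    | zero => simp
    | tmul c m => exact hγL r c m
    | add v w hv hw => rw [smul_add, map_add, map_add, hv, hw, smul_add]
  refine ⟨PrinPart.dPHom f k F ≫ u.mapPresheaf, ⟨u, fun V t => rfl⟩, fun m => ?_⟩
  show u.app U (dP f k F U m) = D' m
  rw [hu]
  have h1 : e ((1 : C) ⊗ₜ[Γ(X, U)] m) = dP f k F U m := by
    show QCoh.sectionsMap (pr2 f k) F _ rfl _ = _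
    rw [QCoh.sectionsMap_tmul, one_smul]
    rfl
  show T' (e.symm (dP f k F U m)) = D' m
  rw [← h1, LinearEquiv.symm_apply_apply]
  exact hγ1 m

end GrothLib.DiffAff9
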